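import Cfsg.Agent.Lib.Perm.WielandtTwoP.Prim

/-!
No primitive group of degree `2p` has a faithful character of degree less than `(p + 1) / 2`.
-/

set_option autoImplicit false
set_option linter.style.haveILetI false

namespace CfsgLib.WielandtTwoP

open Module Cfsg CfsgLib.Chars MulAction CfsgLib.PSL2
open scoped ComplexConjugate

universe u v

/-- A simple nonabelian group with an involution has no faithful representation of degree two. -/
theorem no_two_dim {G : Type u} [Group G] [Finite G] [IsSimpleGroup G] (hZ : Subgroup.center G = ⊥)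
    (h2 : 2 ∣ Nat.card G) (ρ : Representation ℂ G (Fin 2 → ℂ)) (hρ : Function.Injective ρ) : False := by
  classical
  obtain ⟨z, hz⟩ := exists_prime_orderOf_dvd_card' 2 h2
  obtain ⟨b, μ, hμ, -, hb, -, -, -⟩ := exists_eigenbasis_rep ρ z
  let d : G →* ℂ := (LinearMap.det).comp ρ
  have hdet : d z = 1 := by
    let du : G →* ℂˣ := d.toHomUnits
    rcases (inferInstance : du.ker.Normal).eq_bot_or_eq_top with h | h
    · exfalso
      have hc : Subgroup.center G = ⊤ := eq_top_iff.2 fun x _ => Subgroup.mem_center_iff.2 fun y =>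
        (MonoidHom.ker_eq_bot_iff du).1 h (by rw [map_mul, map_mul, mul_comm])
      rw [hZ] at hc
      exact absurd hc bot_ne_top
    · have hzk : z ∈ du.ker := h ▸ Subgroup.mem_top z
      have := congrArg Units.val (MonoidHom.mem_ker.1 hzk)
      simpa [du] using this
  have hM : LinearMap.toMatrix b b (ρ z) = Matrix.diagonal μ := by
    ext i j
    rw [LinearMap.toMatrix_apply, hb, map_smul, Finsupp.smul_apply, b.repr_self, Matrix.diagonal_apply,
      Finsupp.single_apply, smul_eq_mul, mul_ite, mul_one, mul_zero]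
    by_cases h : i = j
    · subst h; simp
    · rw [if_neg (Ne.symm h), if_neg h]
  have hprod : ∏ i, μ i = 1 := by
    rw [← Matrix.det_diagonal, ← hM, LinearMap.det_toMatrix]
    exact hdet
  have hsq : ∀ i, μ i = 1 ∨ μ i = -1 := fun i => by
    have h := hμ i
    rw [hz] at h
    exact sq_eq_one_iff.1 h
  have hcard : Fintype.card (Fin (finrank ℂ (Fin 2 → ℂ))) = 2 := by simp
  obtain ⟨c, hc⟩ : ∃ c : ℂ, ∀ i, μ i = c := by
    obtain ⟨i, j, hij, huniv⟩ := Finset.card_eq_two.1 (Finset.card_univ.trans hcard)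
    rw [huniv, Finset.prod_pair hij] at hprod
    refine ⟨μ i, fun k => ?_⟩
    have hk : k ∈ ({i, j} : Finset _) := huniv ▸ Finset.mem_univ k
    rcases Finset.mem_insert.1 hk with rfl | hk
    · rfl
    · rw [Finset.mem_singleton.1 hk]
      rcases hsq i with h | h <;> rcases hsq j with h' | h' <;> rw [h, h'] at hprod <;>
        first | (rw [h, h']; done) | norm_num at hprod
  have hscal : ρ z = c • (1 : (Fin 2 → ℂ) →ₗ[ℂ] (Fin 2 → ℂ)) := b.ext fun i => by
    rw [hb, hc, LinearMap.smul_apply, Module.End.one_apply]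
  have hzc : z ∈ Subgroup.center G := Subgroup.mem_center_iff.2 fun y => hρ (by
    rw [map_mul, map_mul, hscal, mul_smul_comm, smul_mul_assoc, mul_one, one_mul])
  rw [hZ, Subgroup.mem_bot] at hzc
  rw [hzc, orderOf_one] at hz
  norm_num at hz

/-- The subgroup orders of `PSL₂(p)` allow a maximal subgroup of order `(p² - 1)/4` only for `p = 5`. -/
theorem eq_five_of_maximal {p : ℕ} [Fact p.Prime] (hp5 : 5 ≤ p)
    (H : Subgroup (Matrix.ProjectiveSpecialLinearGroup (Fin 2) (ZMod p))) (hmax : IsCoatom H)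
    (hcard : 4 * Nat.card H + 1 = p ^ 2) : p = 5 := by
  classical
  have hp : p.Prime := Fact.out
  have hodd : Odd p := hp.odd_of_ne_two (by omega)
  have hpH : ¬ p ∣ Nat.card H := fun h => hp.ne_one (Nat.dvd_one.1 ((Nat.dvd_add_right
    (h.mul_left 4)).1 (hcard ▸ dvd_pow_self p two_ne_zero)))
  have hgcd : Nat.gcd 2 (Fintype.card (ZMod p) - 1) = 2 := by
    rw [ZMod.card]
    obtain ⟨k, rfl⟩ := hodd
    exact Nat.gcd_eq_left (by omega)
  have hord : ∀ x ∈ H, 2 * orderOf x ≤ p + 1 := by
    intro x hx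
    have hnp : ¬ p ∣ orderOf x := fun h => hpH (h.trans
      ((Subgroup.orderOf_mk x hx ▸ orderOf_dvd_natCard (⟨x, hx⟩ : H))))
    rcases order_dvd (p := p) hnp with h | h <;> rw [hgcd, ZMod.card] at h <;>
      have := Nat.le_of_dvd (by omega) h <;> omega
  cases dickson_psl (p := p) H with
  | cyclic hc _ =>
    obtain ⟨g, hg⟩ := hc.exists_ofOrder_eq_natCard
    have h1 := hord g g.2
    rw [Subgroup.orderOf_coe, hg] at h1
    exfalso; nlinarith
  | dihedral r hr k hk _ _ hc _ =>
    have h1 := hord r hr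
    rw [hk] at h1
    rw [hc] at hcard
    by_contra hne
    have : 6 ≤ p := by omega
    nlinarith
  | borel P hpd _ => exact absurd hpd hpH
  | tetra _ hiso =>
    exfalso
    obtain ⟨e⟩ := hiso
    have h12 : Nat.card H = 12 := (Nat.card_congr e.toEquiv).trans card_alt_four
    have h7 : p = 7 := by
      rw [h12] at hcard
      exact Nat.pow_left_injective two_ne_zero (hcard.symm.trans (by norm_num))
    subst h7
    have hM := maxSub_of_isCoatom hmax
    let e' := (H.equivMapOfInjective _ Matrix.ProjectiveSpecialLinearGroup.toPGL_injective).symm.trans e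
    have hc' : Nat.card (H.map (Matrix.ProjectiveSpecialLinearGroup.toPGL (n := Fin 2) (R := ZMod 7))) = 12 :=
      (Nat.card_congr e'.toEquiv).trans card_alt_four
    have := (tetra_max (p := 7) hM (by rw [hc']; norm_num) e').2.1
    norm_num at this
  | octa _ hiso =>
    exfalso
    obtain ⟨e⟩ := hiso
    rw [(Nat.card_congr e.toEquiv).trans card_perm_four] at hcard
    have : p < 10 := by nlinarith
    have : 9 < p := by nlinarith
    omega
  | icosa _ hiso =>
    exfalso
    obtain ⟨e⟩ := hiso
    have h60 : Nat.card (alternatingGroup (Fin 5)) = 60 := by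
      rw [nat_card_alternatingGroup, Nat.card_eq_fintype_card, Fintype.card_fin]; decide
    rw [(Nat.card_congr e.toEquiv).trans h60] at hcard
    have : p < 16 := by nlinarith
    have : 15 < p := by nlinarith
    omega
  | subfield K hiso =>
    exfalso
    have hK : Nat.card K = p := by
      have htop : ∀ x : ZMod p, x ∈ K := fun x => by
        rw [← ZMod.natCast_zmod_val x]; exact natCast_mem K _
      rw [Nat.card_congr (Equiv.subtypeUnivEquiv htop), Nat.card_zmod]
    refine hpH ?_
    rcases hiso with ⟨⟨e⟩⟩ | ⟨-, ⟨e⟩⟩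
    · rw [Nat.card_congr e.toEquiv, card_pgl_two hK]
      exact dvd_mul_of_dvd_right (dvd_mul_right p _) _
    · haveI := Fintype.ofFinite K
      have h2 := CfsgLib.Small.card_PSL_two_prime (F := K) (Fintype.card_eq_nat_card.trans hK) hodd
      rw [Nat.card_congr e.toEquiv]
      exact ((Nat.coprime_primes hp Nat.prime_two).2 (by omega)).dvd_of_dvd_mul_left
        (h2 ▸ dvd_mul_right p _)

variable {G : Type u} [Group G] [Fintype G] {Ω : Type v} [MulAction G Ω] [Fintype Ω] [FaithfulSMul G Ω]

/-- A faithful character of a primitive group of degree `2p` has degree at least `(p + 1) / 2`. -/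
theorem degree_large {p : ℕ} [Fact p.Prime] (hprim : IsPreprimitive G Ω) (hp3 : 3 ≤ p)
    (hΩ : Nat.card Ω = 2 * p) (hsq : ¬ p ^ 2 ∣ Nat.card G) (a₀ : Ω)
    {n : ℕ} (ρ : Representation ℂ G (Fin n → ℂ)) (hρ : Function.Injective ρ) (hn : 1 ≤ n) :
    p < 2 * n + 1 := by
  classical
  haveI := hprim
  have hp : p.Prime := Fact.out
  have hnprime : ¬ (Nat.card Ω).Prime := by
    rw [hΩ]; exact Nat.not_prime_mul (by omega) hp.ne_one
  have hZ := center_eq_bot hprim hnprime (by omega)
  have h2p : 2 * p ∣ Nat.card G := by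
    rw [← hΩ, ← index_stabilizer_of_transitive G a₀]; exact Subgroup.index_dvd_card _
  have hdiv : p ∣ Nat.card G := (dvd_mul_left p 2).trans h2p
  have hnn : ∀ H : Subgroup G, H.Normal → Nat.card H ≠ p := by
    intro H hH hc
    haveI := hH
    haveI := transitive_of_normal hprim H fun h => hp.ne_one (by rw [← hc, h, Subgroup.card_bot])
    have h1 : Nat.card Ω ∣ Nat.card H := by
      rw [← index_stabilizer_of_transitive H a₀]; exact Subgroup.index_dvd_card _
    have := Nat.le_of_dvd Nat.card_pos h1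
    omega
  have hge := CfsgLib.SmallDegree.two_mul_degree_add_one_ge ρ hρ hdiv hsq hnn
  rcases hge.eq_or_lt with heq | hlt
  swap
  · exact hlt
  exfalso
  rcases Nat.lt_or_ge n 2 with hn2 | hn2
  · -- degree one
    obtain rfl : n = 1 := by omega
    have hsc : ∀ (f : (Fin 1 → ℂ) →ₗ[ℂ] (Fin 1 → ℂ)) (v : Fin 1 → ℂ), f v = (f 1 0) • v := by
      intro f v
      have hv : v = v 0 • (1 : Fin 1 → ℂ) := funext fun i => by
        rw [Subsingleton.elim i 0]; simp
      conv_lhs => rw [hv, map_smul]
      funext i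
      rw [Subsingleton.elim i 0]
      simp [mul_comm]
    have hcomm : Subgroup.center G = ⊤ := eq_top_iff.2 fun x _ => Subgroup.mem_center_iff.2 fun y =>
      hρ (LinearMap.ext fun v => by
        rw [map_mul, map_mul, Module.End.mul_apply, Module.End.mul_apply, hsc (ρ x) v, map_smul,
          hsc (ρ x) (ρ y v)])
    rw [hZ] at hcomm
    have h1 : Nat.card G = 1 := by rw [← Subgroup.card_top (G := G), ← hcomm, Subgroup.card_bot]
    rw [h1] at hdiv
    exact hp.ne_one (Nat.dvd_one.1 hdiv)
  have hp5 : 5 ≤ p := by omega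
  obtain ⟨e₀⟩ := CfsgLib.SmallDegree.psl_of_boundary ρ hρ heq.symm hp5 hsq hnn hdiv
  let e : G ≃* Matrix.ProjectiveSpecialLinearGroup (Fin 2) (ZMod p) :=
    (QuotientGroup.quotientBot.symm.trans (QuotientGroup.quotientMulEquivOfEq hZ.symm)).trans e₀
  haveI : IsSimpleGroup (Matrix.ProjectiveSpecialLinearGroup (Fin 2) (ZMod p)) :=
    CfsgLib.Small.isSimple_PSL_two (ZMod.card p) (by omega)
  haveI : Nontrivial G := e.toEquiv.nontrivial
  haveI : IsSimpleGroup G := IsSimpleGroup.isSimpleGroup_of_surjective e.symm.toMonoidHom e.symm.surjective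
  have hG : 2 * Nat.card G = p * (p ^ 2 - 1) := by
    rw [Nat.card_congr e.toEquiv]
    exact CfsgLib.Small.card_PSL_two_prime (ZMod.card p) (hp.odd_of_ne_two (by omega))
  haveI : Nontrivial Ω := Finite.one_lt_card_iff_nontrivial.1 (by omega)
  have hmax : IsCoatom (stabilizer G a₀) := IsPreprimitive.isCoatom_stabilizer_of_isPreprimitive G a₀
  set H := (stabilizer G a₀).map e.toMonoidHom with hH
  have hHmax : IsCoatom H := (OrderIso.isCoatom_iff e.mapSubgroup _).2 hmax
  have hidx : Nat.card (stabilizer G a₀) * (2 * p) = Nat.card G := by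
    rw [← hΩ, ← index_stabilizer_of_transitive G a₀, Subgroup.card_mul_index]
  have hcH : Nat.card H = Nat.card (stabilizer G a₀) :=
    Subgroup.card_map_of_injective e.injective
  have h4 : 4 * Nat.card H + 1 = p ^ 2 := by
    have h1 : p * (4 * Nat.card H) = p * (p ^ 2 - 1) := by rw [hcH, ← hG, ← hidx]; ring
    have := Nat.eq_of_mul_eq_mul_left hp.pos h1
    have : 1 ≤ p ^ 2 := Nat.one_le_pow _ _ hp.pos
    omega
  have h5 : p = 5 := eq_five_of_maximal hp5 H hHmax h4
  obtain rfl : n = 2 := by omega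
  exact no_two_dim hZ ((dvd_mul_right 2 p).trans h2p) ρ hρ

end CfsgLib.WielandtTwoP
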