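import Cfsg.Agent.Lib.Perm.PermRankThree
import Cfsg.Agent.Lib.CharApps.Galois

/-!
Multiplicities of the eigenvalues of an element of prime order, for Wielandt's theorem on degree `2p`.
-/

set_option autoImplicit false
set_option linter.style.haveILetI false

namespace CfsgLib.WielandtTwoP

open Module Cfsg CfsgLib.Chars
open scoped ComplexConjugate

universe u

variable {G : Type u} [Group G] [Finite G] {p : ℕ} [Fact p.Prime]

/-- The multiplicity of the eigenvalue `z` of `u`. -/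
noncomputable def eigMult (p : ℕ) (χ : G → ℂ) (u : G) (z : ℂ) : ℂ :=
  (p : ℂ)⁻¹ * ∑ i ∈ Finset.range p, χ (u ^ i) * z⁻¹ ^ i

theorem sum_pow_root {w : ℂ} (hw : w ^ p = 1) :
    ∑ i ∈ Finset.range p, w ^ i = if w = 1 then (p : ℂ) else 0 := by
  split_ifs with h
  · subst h; simp
  · rw [geom_sum_eq h, hw, sub_self, zero_div]

theorem exists_eigen {χ : G → ℂ} (hχ : IsCharacter G χ) {u : G} (hu : u ^ p = 1) :
    ∃ (n : ℕ) (μ : Fin n → ℂ), (∀ l, μ l ^ p = 1) ∧ χ 1 = n ∧ χ u = ∑ l, μ l ∧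
      ∀ z : ℂ, z ^ p = 1 →
        eigMult p χ u z = ((Finset.univ.filter fun l => μ l = z).card : ℕ) := by
  classical
  obtain ⟨n, ρ, rfl⟩ := hχ
  obtain ⟨b, μ, hμ, -, hb, -, h1, -⟩ := exists_eigenbasis_rep ρ u
  have hμp : ∀ l, μ l ^ p = 1 := fun l => by
    obtain ⟨d, hd⟩ := orderOf_dvd_of_pow_eq_one hu
    rw [hd, pow_mul, hμ l, one_pow]
  have hpow : ∀ (i : ℕ) l, ρ (u ^ i) (b l) = μ l ^ i • b l := by
    intro i l
    induction i with
    | zero => simp
    | succ i ih =>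
      rw [pow_succ, map_mul, Module.End.mul_apply, hb, map_smul, ih, smul_smul, pow_succ, mul_comm]
  refine ⟨_, μ, hμp, Representation.char_one ρ, h1, fun z hz => ?_⟩
  have hp0 : (p : ℂ) ≠ 0 := Nat.cast_ne_zero.2 (Fact.out : p.Prime).ne_zero
  have hz0 : z ≠ 0 := fun h => by
    rw [h, zero_pow (Fact.out : p.Prime).ne_zero] at hz
    exact zero_ne_one hz
  have hterm : ∀ l, ∑ i ∈ Finset.range p, μ l ^ i * z⁻¹ ^ i = if μ l = z then (p : ℂ) else 0 := by
    intro l
    simp only [← mul_pow]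
    rw [sum_pow_root (by rw [mul_pow, hμp l, inv_pow, hz, inv_one, one_mul])]
    refine if_congr ?_ rfl rfl
    rw [← div_eq_mul_inv, div_eq_one_iff_eq hz0]
  have hsum : ∑ i ∈ Finset.range p, ρ.character (u ^ i) * z⁻¹ ^ i =
      ∑ l, ∑ i ∈ Finset.range p, μ l ^ i * z⁻¹ ^ i := by
    rw [Finset.sum_comm]
    refine Finset.sum_congr rfl fun i _ => ?_
    rw [← Finset.sum_mul]
    congr 1
    exact trace_eq_sum_of_eigenbasis _ b _ (hpow i)
  rw [eigMult, hsum]
  simp only [hterm]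
  rw [← Finset.sum_filter, Finset.sum_const, nsmul_eq_mul, mul_comm (_ : ℂ) (p : ℂ),
    inv_mul_cancel_left₀ hp0]

/-- The roots of unity of order `p`. -/
noncomputable def roots (p : ℕ) : Finset ℂ := Polynomial.nthRootsFinset p (1 : ℂ)

theorem mem_roots {z : ℂ} : z ∈ roots p ↔ z ^ p = 1 :=
  Polynomial.mem_nthRootsFinset (Fact.out : p.Prime).pos 1

theorem one_mem_roots : (1 : ℂ) ∈ roots p := mem_roots.2 (one_pow _)

theorem card_roots : (roots p).card = p :=
  (Complex.isPrimitiveRoot_exp p (Fact.out : p.Prime).ne_zero).card_nthRootsFinset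

theorem eigMult_nat {χ : G → ℂ} (hχ : IsCharacter G χ) {u : G} (hu : u ^ p = 1) {z : ℂ}
    (hz : z ∈ roots p) : ∃ m : ℕ, eigMult p χ u z = m := by
  obtain ⟨n, μ, -, -, -, h⟩ := exists_eigen hχ hu
  exact ⟨_, h z (mem_roots.1 hz)⟩

theorem sum_eigMult {χ : G → ℂ} (hχ : IsCharacter G χ) {u : G} (hu : u ^ p = 1) :
    ∑ z ∈ roots p, eigMult p χ u z = χ 1 := by
  classical
  obtain ⟨n, μ, hμ, h1, -, h⟩ := exists_eigen hχ hu
  rw [Finset.sum_congr rfl fun z hz => h z (mem_roots.1 hz), ← Nat.cast_sum, h1,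
    ← Finset.card_eq_sum_card_fiberwise (fun l _ => mem_roots.2 (hμ l)), Finset.card_univ,
    Fintype.card_fin]

theorem eq_degree_of_eigMult {χ : G → ℂ} (hχ : IsCharacter G χ) {u : G} (hu : u ^ p = 1)
    (h0 : ∀ z ∈ roots p, z ≠ 1 → eigMult p χ u z = 0) : χ u = χ 1 := by
  classical
  obtain ⟨n, μ, hμ, h1, h2, h⟩ := exists_eigen hχ hu
  have hall : ∀ l, μ l = 1 := by
    intro l
    by_contra hl
    have hc := h0 _ (mem_roots.2 (hμ l)) hl
    rw [h _ (hμ l), Nat.cast_eq_zero, Finset.card_eq_zero] at hc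
    have hm : l ∈ Finset.univ.filter fun l' => μ l' = μ l := by simp
    rw [hc] at hm
    exact Finset.notMem_empty _ hm
  rw [h1, h2]
  simp [hall]

omit [Finite G] in
theorem eigMult_one {u : G} {z : ℂ} (hz : z ∈ roots p) :
    eigMult p (fun _ : G => (1 : ℂ)) u z = if z = 1 then 1 else 0 := by
  have hp0 : (p : ℂ) ≠ 0 := Nat.cast_ne_zero.2 (Fact.out : p.Prime).ne_zero
  simp only [eigMult, one_mul]
  rw [sum_pow_root (by rw [inv_pow, mem_roots.1 hz, inv_one])]
  simp only [inv_eq_one]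
  split_ifs with h
  · exact inv_mul_cancel₀ hp0
  · exact mul_zero _

omit [Finite G] [Fact p.Prime] in
theorem eigMult_sum {ι : Type*} (s : Finset ι) (c : ι → ℂ) (f : ι → G → ℂ) (u : G) (z : ℂ) :
    eigMult p (∑ i ∈ s, c i • f i) u z = ∑ i ∈ s, c i * eigMult p (f i) u z := by
  simp only [eigMult, Finset.sum_apply, Pi.smul_apply, smul_eq_mul, Finset.mul_sum, Finset.sum_mul]
  rw [Finset.sum_comm]
  exact Finset.sum_congr rfl fun i _ => Finset.sum_congr rfl fun j _ => by ring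

omit [Finite G] [Fact p.Prime] in
theorem eigMult_galois (σ : ℂ ≃+* ℂ) (χ : G → ℂ) (u : G) (z : ℂ) :
    eigMult p (fun g => σ (χ g)) u (σ z) = σ (eigMult p χ u z) := by
  simp only [eigMult, map_mul, map_inv₀, map_natCast, map_sum, map_pow]

/-- The automorphisms of `ℂ` permute the nontrivial `p`-th roots of unity transitively. -/
theorem exists_auto {z z' : ℂ} (hz : z ∈ roots p) (hz1 : z ≠ 1) (hz' : z' ∈ roots p) (hz1' : z' ≠ 1) :
    ∃ σ : ℂ ≃+* ℂ, σ z = z' := by
  have hp : p.Prime := Fact.out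
  haveI : NeZero p := ⟨hp.ne_zero⟩
  have hprim : IsPrimitiveRoot z p :=
    IsPrimitiveRoot.mk_of_lt z hp.pos (mem_roots.1 hz) fun l hl0 hlp hl => hz1 (by
      have h1 := orderOf_dvd_of_pow_eq_one (mem_roots.1 hz)
      rcases (Nat.dvd_prime hp).1 h1 with h | h
      · exact orderOf_eq_one_iff.1 h
      · exact absurd (h ▸ orderOf_le_of_pow_eq_one hl0 hl : p ≤ l) (not_le.2 hlp))
  obtain ⟨k, hk, hzk⟩ := hprim.eq_pow_of_pow_eq_one (mem_roots.1 hz')
  have hk0 : k ≠ 0 := fun h => hz1' (by rw [← hzk, h, pow_zero])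
  obtain ⟨σ, hσ⟩ := CharApps.exists_galois_pow p (k := k)
    (Nat.coprime_of_lt_prime hk0 hk hp).symm
  exact ⟨σ, by rw [hσ z (mem_roots.1 hz), hzk]⟩

/-- Galois conjugation respects the scalar product with a rational class function. -/
theorem inner_galois [Fintype G] (σ : ℂ ≃+* ℂ) (χ : IrrCharacter G) {π : G → ℂ}
    (hπ : ∀ g, σ (π g) = π g) :
    classInner π (CharApps.galoisIrr σ χ) = σ (classInner π χ) := by
  rw [inner_def, inner_def, map_mul, map_inv₀, map_natCast, map_sum]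
  congr 1
  refine Finset.sum_congr rfl fun g _ => ?_
  rw [map_mul, hπ, ← char_inv (isCharacter_of_irr χ.2) g, ← CharApps.galoisIrr_apply σ χ,
    char_inv (isCharacter_of_irr (CharApps.galoisIrr σ χ).2)]

end CfsgLib.WielandtTwoP
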