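import Cfsg.Agent.Lib.Perm.WielandtTwoP.Small
import Cfsg.Agent.Lib.Perm.JordanCycle

/-!
Wielandt's theorem on primitive groups of degree `2p`.
-/

set_option autoImplicit false
set_option linter.style.haveILetI false

namespace CfsgLib.WielandtTwoP

open Module Cfsg CfsgLib.Chars MulAction
open scoped ComplexConjugate

universe u v

/-- The constituents of a fixed-point-free element of order `p` on `2p` points. -/
theorem main {G : Type u} [Group G] [Fintype G] {Ω : Type v} [MulAction G Ω] [Fintype Ω]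
    [FaithfulSMul G Ω] {p : ℕ} [Fact p.Prime] (hp3 : 3 ≤ p) (hprim : IsPreprimitive G Ω)
    (hΩ : Fintype.card Ω = 2 * p) (hsemi : ∀ g : G, orderOf g = p → ∀ x : Ω, g • x ≠ x) (a₀ : Ω) :
    IsMultiplyPretransitive G Ω 2 ∨
      (Nat.card (orbitRel.Quotient (stabilizer G a₀) Ω) = 3 ∧
        ∃ a : ℕ, 0 < a ∧ p = 2 * a ^ 2 + 2 * a + 1 ∧ ∀ b : Ω, b ≠ a₀ →
          Nat.card (orbit (stabilizer G a₀) b) = a * (2 * a + 1) ∨
          Nat.card (orbit (stabilizer G a₀) b) = (a + 1) * (2 * a + 1)) := by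
  classical
  haveI := hprim
  haveI := irrFintype G
  have hp : p.Prime := Fact.out
  have hΩ' : Nat.card Ω = 2 * p := by rw [Nat.card_eq_fintype_card, hΩ]
  have hsq := not_sq_dvd hp3 hΩ' hsemi
  -- the element of order `p`
  have hdiv : p ∣ Nat.card G := (dvd_mul_left p 2).trans (by
    rw [← hΩ', ← index_stabilizer_of_transitive G a₀]; exact Subgroup.index_dvd_card _)
  obtain ⟨u, hu⟩ := exists_prime_orderOf_dvd_card' p hdiv
  have hup : u ^ p = 1 := hu ▸ pow_orderOf_eq_one u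
  have hu1 : u ≠ 1 := fun h => hp.ne_one (by rw [← hu, h, orderOf_one])
  set π : G → ℂ := fun g => (Nat.card (fixedBy Ω g) : ℂ) with hπdef
  have hπeq : (Cfsg.permRep ℂ G Ω).character = π := funext Perm.Isotypic.character_perm
  obtain ⟨μ, hμ, hμ1, -, hrank⟩ := Perm.Isotypic.sum_mult (G := G) (Ω := Ω) a₀
  simp only [hπeq] at hμ
  have hπchar : IsCharacter G π := isCharacter_fixedBy
  have hexp : π = ∑ χ : IrrCharacter G, (μ χ : ℂ) • (χ : G → ℂ) := by
    conv_lhs => rw [classFun_eq_sum (isClassFunction_of_isCharacter hπchar)]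
    exact Finset.sum_congr rfl fun χ _ => by rw [hμ]
  set P := principal G with hP
  -- eigenvalue multiplicities
  have hm' : ∀ (χ : IrrCharacter G) (z : ℂ), ∃ m : ℕ, z ∈ roots p →
      eigMult p (χ : G → ℂ) u z = m := fun χ z => by
    by_cases hz : z ∈ roots p
    · obtain ⟨m, hm⟩ := eigMult_nat (isCharacter_of_irr χ.2) hup hz
      exact ⟨m, fun _ => hm⟩
    · exact ⟨0, fun h => absurd h hz⟩
  choose m hm using hm'
  have hp0 : (p : ℂ) ≠ 0 := Nat.cast_ne_zero.2 hp.ne_zero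
  have htwo : ∀ z ∈ roots p, ∑ χ, μ χ * m χ z = 2 := by
    intro z hz
    have h1 : eigMult p π u z = 2 := by
      rw [eigMult, Finset.sum_eq_single 0]
      · rw [pow_zero, pow_zero, mul_one, hπdef]
        simp only [fixedBy_one_eq_univ, Nat.card_coe_set_eq, Set.ncard_univ, hΩ', Nat.cast_mul]
        rw [← mul_assoc, mul_comm (p : ℂ)⁻¹, mul_assoc, inv_mul_cancel₀ hp0, mul_one, Nat.cast_ofNat]
      · intro i hi hi0
        have hord : orderOf (u ^ i) = p := by
          rw [Nat.Coprime.orderOf_pow (hu ▸ (Nat.coprime_of_lt_prime hi0 (Finset.mem_range.1 hi) hp)), hu]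
        have : IsEmpty (fixedBy Ω (u ^ i)) := ⟨fun x => hsemi _ hord x.1 x.2⟩
        rw [hπdef]
        simp
      · intro h; exact absurd (Finset.mem_range.2 hp.pos) h
    rw [hexp, eigMult_sum] at h1
    rw [Finset.sum_congr rfl fun χ _ => by rw [hm χ z hz, ← Nat.cast_mul], ← Nat.cast_sum] at h1
    exact_mod_cast h1
  have hdeg : ∀ χ : IrrCharacter G, (χ : G → ℂ) 1 = ((∑ z ∈ roots p, m χ z : ℕ) : ℂ) := fun χ => by
    rw [← sum_eigMult (isCharacter_of_irr χ.2) hup, Nat.cast_sum]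
    exact Finset.sum_congr rfl fun z hz => hm χ z hz
  have hmP : ∀ z ∈ roots p, m P z = if z = 1 then 1 else 0 := by
    intro z hz
    have h1 := hm P z hz
    rw [show (P : G → ℂ) = fun _ => (1 : ℂ) from rfl, eigMult_one hz] at h1
    split_ifs with h
    · rw [if_pos h] at h1; exact_mod_cast h1.symm
    · rw [if_neg h] at h1; exact_mod_cast h1.symm
  -- the nonprincipal constituents
  set C := (Finset.univ.erase P).filter fun χ => μ χ ≠ 0 with hC
  have hmemC : ∀ {χ}, χ ∈ C ↔ χ ≠ P ∧ μ χ ≠ 0 := fun {χ} => by simp [hC]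
  have hfaith : ∀ χ ∈ C, ∀ g : G, (χ : G → ℂ) g = (χ : G → ℂ) 1 → g = 1 := fun χ hχ g hg =>
    constituent_faithful hprim χ (hmemC.1 hχ).1 (by
      show classInner π χ ≠ 0
      rw [hμ]; exact_mod_cast (hmemC.1 hχ).2) hg
  have hsome : ∀ χ ∈ C, ∃ z ∈ roots p, z ≠ 1 ∧ 0 < m χ z := by
    intro χ hχ
    by_contra! h
    refine hu1 (hfaith χ hχ u (eq_degree_of_eigMult (isCharacter_of_irr χ.2) hup fun z hz hz1 => ?_))
    rw [hm χ z hz, Nat.le_zero.1 (h z hz hz1), Nat.cast_zero]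
  -- sums over the nonprincipal constituents
  have hC2 : ∀ z ∈ roots p, ∑ χ ∈ C, μ χ * m χ z = if z = 1 then 1 else 2 := by
    intro z hz
    have h1 := htwo z hz
    rw [← Finset.add_sum_erase _ _ (Finset.mem_univ P), hμ1, one_mul, hmP z hz] at h1
    have h2 : ∑ χ ∈ Finset.univ.erase P, μ χ * m χ z = ∑ χ ∈ C, μ χ * m χ z :=
      (Finset.sum_filter_of_ne (p := fun χ => μ χ ≠ 0) fun χ _ h h0 => h (by rw [h0, zero_mul])).symm
    split_ifs at h1 ⊢ <;> omega
  -- Galois conjugation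
  have hgal : ∀ (σ : ℂ ≃+* ℂ) (χ : IrrCharacter G), χ ∈ C → CharApps.galoisIrr σ χ ∈ C ∧
      ∀ z ∈ roots p, m (CharApps.galoisIrr σ χ) (σ z) = m χ z := by
    intro σ χ hχ
    have hz' : ∀ z ∈ roots p, σ z ∈ roots p := fun z hz => by
      rw [mem_roots, ← map_pow, mem_roots.1 hz, map_one]
    refine ⟨hmemC.2 ⟨fun h => (hmemC.1 hχ).1 ?_, ?_⟩, fun z hz => ?_⟩
    · refine (CharApps.galoisIrr σ).injective (h.trans ?_)
      exact Subtype.ext (funext fun g => by
        rw [CharApps.galoisIrr_apply, hP, principal_apply, map_one])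
    · have h1 := inner_galois σ χ (π := π) fun g => map_natCast σ _
      rw [hμ, hμ, map_natCast, Nat.cast_inj] at h1
      rw [h1]; exact (hmemC.1 hχ).2
    · have h1 := hm (CharApps.galoisIrr σ χ) (σ z) (hz' z hz)
      rw [show ((CharApps.galoisIrr σ χ : IrrCharacter G) : G → ℂ) = fun g => σ ((χ : G → ℂ) g) from rfl,
        eigMult_galois, hm χ z hz, map_natCast, Nat.cast_inj] at h1
      exact h1.symm
  -- the constituent containing the trivial eigenvalue
  obtain ⟨χ₁, hχ₁, hχ₁1, huniq⟩ : ∃ χ₁ ∈ C, (μ χ₁ = 1 ∧ m χ₁ 1 = 1) ∧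
      ∀ χ ∈ C, χ ≠ χ₁ → m χ 1 = 0 := by
    have h1 := hC2 1 one_mem_roots
    rw [if_pos rfl] at h1
    obtain ⟨χ₁, hχ₁, hne⟩ := Finset.exists_ne_zero_of_sum_ne_zero (by rw [h1]; exact one_ne_zero)
    rw [← Finset.add_sum_erase _ _ hχ₁] at h1
    have h2 : μ χ₁ * m χ₁ 1 = 1 ∧ ∑ χ ∈ C.erase χ₁, μ χ * m χ 1 = 0 := by omega
    refine ⟨χ₁, hχ₁, ⟨Nat.eq_one_of_mul_eq_one_right h2.1, Nat.eq_one_of_mul_eq_one_left h2.1⟩,
      fun χ hχ hne' => ?_⟩
    have h3 := Finset.sum_eq_zero_iff.1 h2.2 χ (Finset.mem_erase.2 ⟨hne', hχ⟩)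
    exact (Nat.mul_eq_zero.1 h3).resolve_left (hmemC.1 hχ).2
  obtain ⟨z₁, hz₁, hz₁1, hz₁pos⟩ := hsome χ₁ hχ₁
  set c := m χ₁ z₁ with hc
  have hconst : ∀ z ∈ roots p, z ≠ 1 → m χ₁ z = c := by
    intro z hz hz1
    obtain ⟨σ, hσ⟩ := exists_auto hz₁ hz₁1 hz hz1
    obtain ⟨hσC, hσm⟩ := hgal σ χ₁ hχ₁
    have heq : CharApps.galoisIrr σ χ₁ = χ₁ := by
      by_contra hne
      have h1 := huniq _ hσC hne
      have h2 := hσm 1 one_mem_roots
      rw [map_one, hχ₁1.2, h1] at h2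
      exact zero_ne_one h2
    have h3 := hσm z₁ hz₁
    rwa [hσ, heq] at h3
  have hrest : ∀ z ∈ roots p, z ≠ 1 → ∑ χ ∈ C.erase χ₁, μ χ * m χ z = 2 - c ∧ c ≤ 2 := by
    intro z hz hz1
    have h1 := hC2 z hz
    rw [if_neg hz1, ← Finset.add_sum_erase _ _ hχ₁, hχ₁1.1, one_mul, hconst z hz hz1] at h1
    omega
  -- the rank
  have hrk : Nat.card (orbitRel.Quotient (stabilizer G a₀) Ω) =
      2 + ∑ χ ∈ C.erase χ₁, μ χ * μ χ := by
    rw [← hrank, ← Finset.add_sum_erase _ _ (Finset.mem_univ P), hμ1,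
      ← (Finset.sum_filter_of_ne (p := fun χ => μ χ ≠ 0) fun χ _ h h0 => h (by rw [h0, zero_mul]) :
        ∑ χ ∈ C, μ χ * μ χ = ∑ χ ∈ Finset.univ.erase P, μ χ * μ χ),
      ← Finset.add_sum_erase _ _ hχ₁, hχ₁1.1]
    omega
  obtain hc2 | hc1 : c = 2 ∨ c = 1 := by
    have := (hrest z₁ hz₁ hz₁1).2
    omega
  · -- doubly transitive
    left
    have hempty : C.erase χ₁ = ∅ := by
      rw [Finset.eq_empty_iff_forall_notMem]
      intro χ hχ
      obtain ⟨z, hz, hz1, hpos⟩ := hsome χ (Finset.mem_of_mem_erase hχ)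
      have h1 := (hrest z hz hz1).1
      rw [hc2, Nat.sub_self] at h1
      have h2 := Finset.sum_eq_zero_iff.1 h1 χ hχ
      rcases Nat.mul_eq_zero.1 h2 with h | h
      · exact (hmemC.1 (Finset.mem_of_mem_erase hχ)).2 h
      · omega
    rw [hempty, Finset.sum_empty, add_zero] at hrk
    exact (card_orbits_stabilizer_eq_two_iff (by omega) a₀).1 hrk
  right
  set D := C.erase χ₁ with hD
  have hD1 : ∀ z ∈ roots p, z ≠ 1 → ∑ χ ∈ D, μ χ * m χ z = 1 := fun z hz hz1 => by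
    have := (hrest z hz hz1).1
    omega
  have hDC : ∀ {χ}, χ ∈ D → χ ∈ C := fun {χ} h => Finset.mem_of_mem_erase h
  have hDμ : ∀ χ ∈ D, μ χ = 1 := by
    intro χ hχ
    obtain ⟨z, hz, hz1, hpos⟩ := hsome χ (hDC hχ)
    have h1 := hD1 z hz hz1
    have h2 := Finset.single_le_sum (fun ψ _ => Nat.zero_le (μ ψ * m ψ z)) hχ
    have h3 : 1 ≤ μ χ := Nat.pos_of_ne_zero (hmemC.1 (hDC hχ)).2
    have h4 : μ χ ≤ μ χ * m χ z := Nat.le_mul_of_pos_right _ hpos
    omega
  have hD1' : ∀ z ∈ roots p, z ≠ 1 → ∑ χ ∈ D, m χ z = 1 := fun z hz hz1 => by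
    rw [← hD1 z hz hz1]
    exact Finset.sum_congr rfl fun χ hχ => by rw [hDμ χ hχ, one_mul]
  let deg : IrrCharacter G → ℕ := fun χ => ∑ z ∈ roots p, m χ z
  have hdeg₁ : deg χ₁ = p := by
    show ∑ z ∈ roots p, m χ₁ z = p
    rw [← Finset.add_sum_erase _ _ one_mem_roots, hχ₁1.2,
      Finset.sum_congr rfl fun z hz => (hconst z (Finset.mem_of_mem_erase hz)
        (Finset.ne_of_mem_erase hz)).trans hc1, Finset.sum_const, smul_eq_mul, mul_one,
      Finset.card_erase_of_mem one_mem_roots, card_roots]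
    omega
  have hdegD : ∀ χ ∈ D, deg χ = ∑ z ∈ (roots p).erase 1, m χ z := fun χ hχ => by
    show ∑ z ∈ roots p, m χ z = _
    rw [← Finset.add_sum_erase _ _ one_mem_roots,
      huniq χ (hDC hχ) (Finset.ne_of_mem_erase hχ), zero_add]
  have hsumD : ∑ χ ∈ D, deg χ = p - 1 := by
    rw [Finset.sum_congr rfl hdegD, Finset.sum_comm,
      Finset.sum_congr rfl fun z hz => hD1' z (Finset.mem_of_mem_erase hz) (Finset.ne_of_mem_erase hz),
      Finset.sum_const, smul_eq_mul, mul_one, Finset.card_erase_of_mem one_mem_roots, card_roots]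
  have hsame : ∀ χ ∈ D, ∀ ψ ∈ D, deg χ = deg ψ := by
    intro χ hχ ψ hψ
    obtain ⟨z, hz, hz1, hpos⟩ := hsome χ (hDC hχ)
    obtain ⟨w, hw, hw1, hwpos⟩ := hsome ψ (hDC hψ)
    obtain ⟨σ, hσ⟩ := exists_auto hz hz1 hw hw1
    obtain ⟨hσC, hσm⟩ := hgal σ χ (hDC hχ)
    have hne : CharApps.galoisIrr σ χ ≠ χ₁ := fun h => by
      have h2 := hσm 1 one_mem_roots
      rw [map_one, h, hχ₁1.2, huniq χ (hDC hχ) (Finset.ne_of_mem_erase hχ)] at h2
      exact one_ne_zero h2
    have heq : CharApps.galoisIrr σ χ = ψ := by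
      by_contra hne'
      have h1 := hD1' w hw hw1
      have hmem : CharApps.galoisIrr σ χ ∈ D := Finset.mem_erase.2 ⟨hne, hσC⟩
      have h2 := Finset.sum_le_sum_of_subset (f := fun φ => m φ w)
        (show {CharApps.galoisIrr σ χ, ψ} ⊆ D by
          intro φ hφ
          rcases Finset.mem_insert.1 hφ with rfl | hφ
          · exact hmem
          · rwa [Finset.mem_singleton.1 hφ])
      rw [Finset.sum_pair hne'] at h2
      have h3 := hσm z hz
      rw [hσ] at h3
      omega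
    have hd := hdeg ψ
    rw [← heq, CharApps.galoisIrr_apply, hdeg, map_natCast, Nat.cast_inj] at hd
    rw [← heq]
    exact hd
  obtain ⟨χ₂, hχ₂⟩ : D.Nonempty := by
    rw [Finset.nonempty_iff_ne_empty]
    intro h
    rw [h, Finset.sum_empty] at hsumD
    omega
  have hfD : D.card * deg χ₂ = p - 1 := by
    rw [← hsumD, Finset.sum_congr rfl fun χ hχ => hsame χ hχ χ₂ hχ₂, Finset.sum_const, smul_eq_mul]
  have hcard1 : D.card = 1 := by
    by_contra hne
    have hpos : 1 ≤ D.card := Finset.card_pos.2 ⟨χ₂, hχ₂⟩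
    obtain ⟨n, ρ, hirr, hθ⟩ := χ₂.2
    have hn : (n : ℂ) = (deg χ₂ : ℂ) := by
      show (n : ℂ) = ((∑ z ∈ roots p, m χ₂ z : ℕ) : ℂ)
      rw [← hdeg χ₂, ← hθ, Representation.char_one, Module.finrank_fin_fun]
    have hn' : n = deg χ₂ := Nat.cast_inj.1 hn
    have hinj : Function.Injective ρ := fun g g' h => inv_mul_eq_one.1 (hfaith χ₂ (hDC hχ₂) _ (by
      rw [← hθ]
      show LinearMap.trace ℂ _ (ρ (g⁻¹ * g')) = LinearMap.trace ℂ _ (ρ 1)
      rw [map_mul, ← h, ← map_mul, inv_mul_cancel]))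
    have h2 : 2 * deg χ₂ ≤ p - 1 := by
      rw [← hfD]; exact Nat.mul_le_mul_right _ (by omega)
    have hn1 : 1 ≤ n := Nat.pos_of_ne_zero fun h => irr_degree_ne_zero χ₂.2 (by
      rw [← hθ, Representation.char_one, Module.finrank_fin_fun, h, Nat.cast_zero])
    have h3 := degree_large hprim hp3 hΩ' hsq a₀ ρ hinj hn1
    omega
  rw [hcard1, one_mul] at hfD
  obtain ⟨χ', hDeq⟩ := Finset.card_eq_one.1 hcard1
  obtain rfl : χ₂ = χ' := Finset.mem_singleton.1 (hDeq ▸ hχ₂)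
  rw [hDeq, Finset.sum_singleton, hDμ χ₂ hχ₂, one_mul] at hrk
  refine ⟨hrk, Perm.Isotypic.rank_three_parameters hprim hΩ a₀ hrk χ₂ χ₁ (fun g => ?_) ?_ ?_⟩
  · rw [hπeq, hexp, Finset.sum_apply]
    simp only [Pi.smul_apply, smul_eq_mul]
    rw [← Finset.add_sum_erase _ _ (Finset.mem_univ P), hμ1, Nat.cast_one, one_mul, principal_apply,
      ← (Finset.sum_filter_of_ne (p := fun χ => μ χ ≠ 0) fun χ _ h h0 => h (by rw [h0, Nat.cast_zero, zero_mul]) :
        ∑ χ ∈ C, (μ χ : ℂ) * (χ : G → ℂ) g = ∑ χ ∈ Finset.univ.erase P, (μ χ : ℂ) * (χ : G → ℂ) g),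
      ← Finset.add_sum_erase _ _ hχ₁, ← hD, hDeq, Finset.sum_singleton, hχ₁1.1, hDμ χ₂ hχ₂]
    ring
  · rw [hdeg]
    show ((deg χ₂ : ℕ) : ℂ) = _
    rw [hfD, Nat.cast_sub hp.one_le, Nat.cast_one]
  · rw [hdeg]
    show ((deg χ₁ : ℕ) : ℂ) = _
    rw [hdeg₁]

/-- A group containing the alternating group is doubly transitive. -/
theorem two_pretransitive_of_alternating {α : Type*} [Fintype α] [DecidableEq α]
    (hα : 4 ≤ Fintype.card α) {G : Subgroup (Equiv.Perm α)} (hG : alternatingGroup α ≤ G) :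
    IsMultiplyPretransitive G α 2 := by
  have h1 : IsMultiplyPretransitive (alternatingGroup α) α (Nat.card α - 2) :=
    alternatingGroup.isMultiplyPretransitive α
  have h2 : IsMultiplyPretransitive (alternatingGroup α) α 2 :=
    isMultiplyPretransitive_of_le (n := Nat.card α - 2)
      (by rw [Nat.card_eq_fintype_card]; omega) (Nat.sub_le _ _)
  rw [is_two_pretransitive_iff] at h2 ⊢
  intro a b c d hab hcd
  obtain ⟨g, hg1, hg2⟩ := h2 hab hcd
  exact ⟨⟨g.1, hG g.2⟩, hg1, hg2⟩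

/-- Degree four. -/
theorem degree_four {α : Type*} [Fintype α] [DecidableEq α] (hα : Fintype.card α = 4)
    (G : Subgroup (Equiv.Perm α)) (hG : IsPreprimitive G α) : IsMultiplyPretransitive G α 2 := by
  classical
  haveI := hG
  haveI : Nontrivial α := Fintype.one_lt_card_iff_nontrivial.1 (by omega)
  obtain ⟨a⟩ : Nonempty α := inferInstance
  have h3 : 3 ∣ Nat.card G := by
    by_contra h3
    have hidx : (stabilizer G a).index = 4 := by
      rw [index_stabilizer_of_transitive G a, Nat.card_eq_fintype_card, hα]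
    have hdvd : Nat.card G ∣ 2 ^ 3 := by
      have h24 : Nat.card G ∣ 2 ^ 3 * 3 := by
        refine (Subgroup.card_subgroup_dvd_card G).trans ?_
        rw [Nat.card_perm, Nat.card_eq_fintype_card, hα]
        decide
      exact ((Nat.Prime.coprime_iff_not_dvd Nat.prime_three).2 h3).symm.dvd_of_dvd_mul_right h24
    obtain ⟨i, -, hi⟩ := (Nat.dvd_prime_pow Nat.prime_two).1 hdvd
    haveI : Fact (Nat.Prime 2) := ⟨Nat.prime_two⟩
    haveI : Group.IsNilpotent G := (IsPGroup.of_card hi).isNilpotent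
    have hmax : IsCoatom (stabilizer G a) := IsPreprimitive.isCoatom_stabilizer_of_isPreprimitive G a
    haveI : (stabilizer G a).Normal :=
      Subgroup.NormalizerCondition.normal_of_coatom _ Group.normalizerCondition_of_isNilpotent hmax
    have hbot : stabilizer G a = ⊥ := by
      rw [Subgroup.eq_bot_iff_forall]
      intro g hg
      refine Subtype.ext (Equiv.ext fun x => ?_)
      obtain ⟨y, rfl⟩ := exists_smul_eq G a x
      have h1 := ‹(stabilizer G a).Normal›.conj_mem g hg y⁻¹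
      rw [inv_inv, mem_stabilizer_iff, mul_smul, mul_smul, inv_smul_eq_iff] at h1
      exact h1
    rw [hbot] at hmax hidx
    rw [Subgroup.index_bot] at hidx
    obtain ⟨x, hx⟩ := exists_prime_orderOf_dvd_card' (G := G) 2 (by omega)
    have htop : Subgroup.zpowers x = ⊤ := hmax.2 _ (bot_lt_iff_ne_bot.2 fun h => by
      rw [Subgroup.zpowers_eq_bot] at h
      rw [h, orderOf_one] at hx
      omega)
    rw [← Subgroup.card_top (G := G), ← htop, Nat.card_zpowers, hx] at hidx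
    omega
  haveI : Fact (Nat.Prime 3) := ⟨Nat.prime_three⟩
  obtain ⟨x, hx⟩ := exists_prime_orderOf_dvd_card' 3 h3
  have hcyc : (x : Equiv.Perm α).IsThreeCycle := by
    have ho : orderOf (x : Equiv.Perm α) = 3 := by rw [Subgroup.orderOf_coe, hx]
    have hc : (x : Equiv.Perm α).IsCycle :=
      Equiv.Perm.isCycle_of_prime_order' (by rw [ho]; exact Nat.prime_three) (by rw [ho]; omega)
    rw [← card_support_eq_three_iff, ← hc.orderOf, ho]
  exact two_pretransitive_of_alternating (by omega)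
    (Equiv.Perm.alternatingGroup_le_of_isPreprimitive_of_isThreeCycle_mem hG hcyc x.2)

/-- Wielandt's theorem. -/
theorem wielandt {α : Type*} [Fintype α] [DecidableEq α] {p : ℕ} (hp : p.Prime)
    (hα : Fintype.card α = 2 * p) (G : Subgroup (Equiv.Perm α)) (hG : IsPreprimitive G α) (a₀ : α) :
    IsMultiplyPretransitive G α 2 ∨ (Nat.card (orbitRel.Quotient (stabilizer G a₀) α) = 3 ∧
      ∃ a : ℕ, 0 < a ∧ p = 2 * a ^ 2 + 2 * a + 1 ∧ ∀ b : α, b ≠ a₀ →
        Nat.card (orbit (stabilizer G a₀) b) = a * (2 * a + 1) ∨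
        Nat.card (orbit (stabilizer G a₀) b) = (a + 1) * (2 * a + 1)) := by
  classical
  haveI : Fact p.Prime := ⟨hp⟩
  rcases Nat.lt_or_ge p 3 with hp2 | hp3
  · obtain rfl : p = 2 := le_antisymm (by omega) hp.two_le
    exact Or.inl (degree_four hα G hG)
  by_cases hsemi : ∀ g : G, orderOf g = p → ∀ x : α, g • x ≠ x
  · haveI := Fintype.ofFinite G
    exact main hp3 hG hα hsemi a₀
  push Not at hsemi
  obtain ⟨g, hg, x, hx⟩ := hsemi
  left
  have ho : orderOf (g : Equiv.Perm α) = p := by rw [Subgroup.orderOf_coe, hg]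
  have hlt : (g : Equiv.Perm α).support.card < 2 * p := by
    rw [← hα]
    refine (Finset.card_lt_iff_ne_univ _).2 fun h => ?_
    have h1 : x ∈ (g : Equiv.Perm α).support := h ▸ Finset.mem_univ x
    exact Equiv.Perm.mem_support.1 h1 hx
  have hcyc : (g : Equiv.Perm α).IsCycle :=
    Equiv.Perm.isCycle_of_prime_order (by rw [ho]; exact hp) (by rw [ho]; exact hlt)
  exact two_pretransitive_of_alternating (by omega)
    (CfsgLib.Perm.alternatingGroup_le_of_prime_cycle hG (p := p) (by omega) hcyc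
      (by rw [← hcyc.orderOf, ho]) g.2)

end CfsgLib.WielandtTwoP
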