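import Cfsg.Agent.Lib.Perm.WielandtTwoP.Eigen
import Cfsg.Agent.Lib.SmallDegree.Boundary
import Cfsg.Agent.Lib.PSL2.DicksonPSL
import Cfsg.Agent.Lib.PSL2.Classify
import Cfsg.Agent.Lib.Small.PSLPrimes

/-!
Facts about primitive groups, and the boundary case `PSL₂(p)`.
-/

set_option autoImplicit false
set_option linter.style.haveILetI false

namespace CfsgLib.WielandtTwoP

open Module Cfsg CfsgLib.Chars MulAction
open scoped ComplexConjugate

universe u v

variable {G : Type u} [Group G] {Ω : Type v} [MulAction G Ω] [Fintype Ω] [FaithfulSMul G Ω]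

omit [Fintype Ω] in
theorem transitive_of_normal (hprim : IsPreprimitive G Ω) (N : Subgroup G) [N.Normal] (hN : N ≠ ⊥) :
    IsPretransitive N Ω := by
  haveI := hprim
  refine IsQuasiPreprimitive.isPretransitive_of_normal (G := G) fun h => hN ?_
  rw [Subgroup.eq_bot_iff_forall]
  intro n hn
  refine eq_of_smul_eq_smul (α := Ω) fun x => ?_
  rw [one_smul]
  have hx : x ∈ fixedPoints N Ω := h ▸ Set.mem_univ x
  exact hx ⟨n, hn⟩

/-- A non-cyclic-of-prime-order primitive group has trivial centre. -/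
theorem center_eq_bot [Finite G] (hprim : IsPreprimitive G Ω) (hnp : ¬ (Nat.card Ω).Prime)
    (hΩ : 2 ≤ Nat.card Ω) : Subgroup.center G = ⊥ := by
  classical
  haveI := hprim
  by_contra hne
  haveI := transitive_of_normal hprim _ hne
  haveI : Nontrivial Ω := Finite.one_lt_card_iff_nontrivial.1 (by omega)
  obtain ⟨a⟩ : Nonempty Ω := inferInstance
  have hfix : stabilizer G a = ⊥ := by
    rw [Subgroup.eq_bot_iff_forall]
    intro h hh
    refine eq_of_smul_eq_smul (α := Ω) fun x => ?_
    obtain ⟨z, rfl⟩ := exists_smul_eq (Subgroup.center G) a x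
    rw [one_smul]
    change h • ((z : G) • a) = (z : G) • a
    rw [← mul_smul, Subgroup.mem_center_iff.1 z.2 h, mul_smul, mem_stabilizer_iff.1 hh]
  have hmax : IsCoatom (stabilizer G a) :=
    IsPreprimitive.isCoatom_stabilizer_of_isPreprimitive G a
  rw [hfix] at hmax
  have hcard : Nat.card Ω = Nat.card G := by
    have h1 : (stabilizer G a).index = Nat.card Ω := index_stabilizer_of_transitive G a
    rw [hfix, Subgroup.index_bot] at h1
    exact h1.symm
  obtain ⟨q, hq, hqd⟩ := Nat.exists_prime_and_dvd (show Nat.card G ≠ 1 by omega)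
  haveI := Fact.mk hq
  obtain ⟨x, hx⟩ := exists_prime_orderOf_dvd_card' q hqd
  have htop : Subgroup.zpowers x = ⊤ := hmax.2 _ (bot_lt_iff_ne_bot.2 fun h => hq.ne_one (by
    rw [Subgroup.zpowers_eq_bot] at h
    rw [← hx, h, orderOf_one]))
  refine hnp ?_
  rw [hcard, ← Subgroup.card_top (G := G), ← htop, Nat.card_zpowers, hx]
  exact hq

variable [Fintype G]

/-- Nontrivial constituents of the permutation character are faithful. -/
theorem constituent_faithful (hprim : IsPreprimitive G Ω) (χ : IrrCharacter G)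
    (hχ : χ ≠ principal G)
    (hin : classInner (fun g : G => (Nat.card (fixedBy Ω g) : ℂ)) χ ≠ 0)
    {g : G} (hg : (χ : G → ℂ) g = (χ : G → ℂ) 1) : g = 1 := by
  classical
  obtain ⟨n, ρ, -, hθ⟩ := χ.2
  have hker : ∀ x, ρ x = 1 ↔ (χ : G → ℂ) x = (χ : G → ℂ) 1 := fun x => by
    rw [← hθ, Representation.char_one, character_eq_finrank_iff]
    rfl
  by_contra hne
  let N : Subgroup G := ρ.ker
  have hgN : g ∈ N := MonoidHom.mem_ker.2 ((hker g).2 hg)
  haveI hNn : N.Normal := MonoidHom.normal_ker _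
  haveI := transitive_of_normal hprim N fun h => hne (by simpa using (h ▸ hgN : g ∈ (⊥ : Subgroup G)))
  have hinv : ∀ (x : G) (n : N), (χ : G → ℂ) (x * n) = (χ : G → ℂ) x := fun x n => by
    rw [← hθ]
    show LinearMap.trace ℂ _ (ρ (x * n)) = LinearMap.trace ℂ _ (ρ x)
    rw [map_mul, show ρ (n : G) = 1 from MonoidHom.mem_ker.1 n.2, mul_one]
  -- the fixed points averaged over `N` are constant
  set C : ℕ := ∑ x : Ω, Nat.card (stabilizer N x) with hC
  have havg : ∀ x : G, ∑ n : N, Nat.card (fixedBy Ω (x * n)) = C := by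
    intro x
    have h1 : ∀ n : N, Nat.card (fixedBy Ω (x * n)) = ∑ a : Ω, if (x * n) • a = a then 1 else 0 := by
      intro n
      rw [Finset.sum_boole, Nat.cast_id, Nat.card_eq_fintype_card, ← Fintype.card_subtype]
      exact Fintype.card_congr (Equiv.subtypeEquivRight fun a => mem_fixedBy)
    simp only [h1]
    rw [Finset.sum_comm, hC]
    refine Finset.sum_congr rfl fun a _ => ?_
    rw [Finset.sum_boole, Nat.cast_id, ← Fintype.card_subtype, ← Nat.card_eq_fintype_card]
    obtain ⟨n₀, hn₀⟩ := exists_smul_eq N a (x⁻¹ • a)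
    refine Nat.card_congr ((Equiv.mulLeft n₀⁻¹).subtypeEquiv fun n => ?_)
    rw [mem_stabilizer_iff, Equiv.coe_mulLeft, mul_smul, mul_smul, smul_eq_iff_eq_inv_smul,
      show ((n : G) • a) = n • a from rfl, ← hn₀, inv_smul_eq_iff]
  apply hin
  have hsum0 : ∑ x : G, conj ((χ : G → ℂ) x) = 0 := by
    have h1 := inner_irr (principal G) χ
    rw [if_neg (Ne.symm hχ), inner_def] at h1
    simp only [principal_apply, one_mul] at h1
    exact (mul_eq_zero.1 h1).resolve_left (inv_ne_zero (Nat.cast_ne_zero.2 Nat.card_pos.ne'))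
  have hN0 : ((Fintype.card N : ℕ) : ℂ) ≠ 0 := Nat.cast_ne_zero.2 Fintype.card_ne_zero
  rw [inner_def]
  refine mul_eq_zero_of_right _ ((mul_eq_zero.1 ?_).resolve_left hN0)
  calc ((Fintype.card N : ℕ) : ℂ) *
      ∑ x : G, (Nat.card (fixedBy Ω x) : ℂ) * conj ((χ : G → ℂ) x)
      = ∑ _n : N, ∑ x : G, (Nat.card (fixedBy Ω x) : ℂ) * conj ((χ : G → ℂ) x) := by
        rw [Finset.sum_const, Finset.card_univ, nsmul_eq_mul]
    _ = ∑ n : N, ∑ x : G, (Nat.card (fixedBy Ω (x * n)) : ℂ) * conj ((χ : G → ℂ) x) := by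
        refine Finset.sum_congr rfl fun n _ => ?_
        rw [← Equiv.sum_comp (Equiv.mulRight (n : G))]
        exact Finset.sum_congr rfl fun x _ => by rw [Equiv.coe_mulRight, hinv]
    _ = ∑ x : G, (C : ℂ) * conj ((χ : G → ℂ) x) := by
        rw [Finset.sum_comm]
        refine Finset.sum_congr rfl fun x _ => ?_
        rw [← Finset.sum_mul, ← Nat.cast_sum, havg]
    _ = 0 := by rw [← Finset.mul_sum, hsum0, mul_zero]

omit [Fintype Ω] [FaithfulSMul G Ω] [Fintype G] in
/-- A group of prime square order cannot act semiregularly on `2p` points. -/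
theorem not_sq_dvd [Finite G] [Finite Ω] {p : ℕ} [Fact p.Prime] (hp3 : 3 ≤ p) (hΩ : Nat.card Ω = 2 * p)
    (hsemi : ∀ g : G, orderOf g = p → ∀ x : Ω, g • x ≠ x) : ¬ p ^ 2 ∣ Nat.card G := by
  intro hdvd
  obtain ⟨A, hA⟩ := Sylow.exists_subgroup_card_pow_prime p hdvd
  obtain ⟨a⟩ : Nonempty Ω := (Nat.card_pos_iff.1 (by omega)).1
  have hbot : stabilizer A a = ⊥ := by
    by_contra hne
    have hp : p ∣ Nat.card (stabilizer A a) := by
      have h1 : Nat.card (stabilizer A a) ∣ p ^ 2 := hA ▸ Subgroup.card_subgroup_dvd_card _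
      obtain ⟨i, -, hi⟩ := (Nat.dvd_prime_pow (Fact.out : p.Prime)).1 h1
      rcases i with _ | i
      · exact absurd (Subgroup.card_eq_one.1 (by rw [hi, pow_zero])) hne
      · rw [hi, pow_succ]; exact dvd_mul_left _ _
    obtain ⟨g, hg⟩ := exists_prime_orderOf_dvd_card' p hp
    refine hsemi ((g : A) : G) (by rw [← hg, Subgroup.orderOf_coe, Subgroup.orderOf_coe]) a ?_
    exact g.2
  have h1 : Nat.card (orbit A a) = p ^ 2 := by
    rw [← hA, Nat.card_congr (orbitEquivQuotientStabilizer A a), ← Subgroup.index, hbot,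
      Subgroup.index_bot]
  have h2 : Nat.card (orbit A a) ≤ Nat.card Ω :=
    Nat.card_le_card_of_injective Subtype.val Subtype.val_injective
  rw [h1, hΩ] at h2
  nlinarith

end CfsgLib.WielandtTwoP
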